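import Groth.Agent.FibSiteLib.Sheaves
import Mathlib.CategoryTheory.Monad.Adjunction

/-! The left and right adjoints of restriction to a fibre. -/

set_option backward.isDefEq.respectTransparency false
set_option backward.isDefEq.respectTransparency.types false

universe u

open CategoryTheory CategoryTheory.Limits Opposite Pseudofunctor Pseudofunctor.CoGrothendieck

namespace Groth.FibSiteL

variable {𝒮 : Type u} [SmallCategory 𝒮]
  {F : Pseudofunctor (LocallyDiscrete 𝒮ᵒᵖ) Cat.{u, u}} {J : FibSite.Topologies F}
  (hF : FibSite.IsPreFibSite F J)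

lemma full_ι_of_isTerminal (i : 𝒮) (hi : IsTerminal i) : (ι F i).Full where
  map_surjective g := exists_ι_map_eq g (hi.hom_ext _ _)

include hF in
theorem extend_fullyFaithful (i : 𝒮) (hi : IsTerminal i)
    [(ι F i).IsContinuous (J i) (FibSite.totalTopology F J)] :
    (FibSite.extend F J (Type u) i).Full ∧ (FibSite.extend F J (Type u) i).Faithful := by
  haveI := full_ι_of_isTerminal (F := F) i hi
  let e : FibSite.extend F J (Type u) i ⋙ FibSite.restr F J (Type u) i ≅ 𝟭 _ :=
    Functor.isoWhiskerRight (Functor.sheafPullbackConstruction.sheafPullbackIso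
      (ι F i) (Type u) (J i) (FibSite.totalTopology F J)) _ ≪≫
    Functor.isoWhiskerLeft (sheafToPresheaf (J i) (Type u) ⋙ (ι F i).op.lan)
      (restrSheafify hF i).symm ≪≫
    Functor.isoWhiskerLeft (sheafToPresheaf (J i) (Type u))
      (Functor.isoWhiskerRight (asIso (ι F i).op.lanUnit).symm
        (presheafToSheaf (J i) (Type u))) ≪≫
    (sheafificationNatIso (J i) (Type u)).symm
  let ff := ((ι F i).sheafAdjunctionContinuous (Type u) (J i)
    (FibSite.totalTopology F J)).fullyFaithfulLOfCompIsoId e
  exact ⟨ff.full, ff.faithful⟩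

lemma isIso_summand_of_unique {i j : 𝒮} (f : j ⟶ i) (hf : ∀ g : j ⟶ i, g = f) :
    IsIso (summand (F := F) i j f) := by
  suffices ∀ a V, IsIso (((summand (F := F) i j f).app a).app V) by
    haveI : ∀ a, IsIso ((summand (F := F) i j f).app a) := fun a =>
      NatIso.isIso_of_isIso_app _
    exact NatIso.isIso_of_isIso_app _
  intro a V
  rw [isIso_iff_bijective]
  refine ⟨fun z z' h => ?_, fun w => ?_⟩
  · exact eq_of_heq (Sigma.mk.inj_iff.1
      ((summand_bijective a V.unop).1 (a₁ := ⟨f, z⟩) (a₂ := ⟨f, z'⟩) h)).2
  · obtain ⟨⟨g, z⟩, h⟩ := (summand_bijective a V.unop).2 w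
    obtain rfl := hf g
    exact ⟨z, h⟩

theorem preservesFiniteLimits_extend (hFib : FibSite.IsFibSite F J) (i : 𝒮) (hi : IsTerminal i)
    [(ι F i).IsContinuous (J i) (FibSite.totalTopology F J)] :
    PreservesFiniteLimits (FibSite.extend F J (Type u) i) := by
  haveI := fun S => isContinuous_ι hFib.isPreFibSite S
  refine preservesFiniteLimits_of_restr _ fun j => ?_
  haveI := (hFib (hi.from j)).1
  haveI := (hFib (hi.from j)).2.2
  haveI := isIso_summand_of_unique (F := F) (hi.from j) (fun g => hi.hom_ext _ _)
  let e : (FibSite.invImage F (hi.from j)).sheafPullback (Type u) (J i) (J j) ≅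
      FibSite.extend F J (Type u) i ⋙ FibSite.restr F J (Type u) j :=
    Functor.sheafPullbackConstruction.sheafPullbackIso _ _ _ _ ≪≫
    Functor.isoWhiskerLeft (sheafToPresheaf (J i) (Type u))
      (Functor.isoWhiskerRight (asIso (summand i j (hi.from j)))
        (presheafToSheaf (J j) (Type u))) ≪≫
    Functor.isoWhiskerLeft (sheafToPresheaf (J i) (Type u) ⋙ (ι F i).op.lan)
      (restrSheafify hFib.isPreFibSite j) ≪≫
    Functor.isoWhiskerRight (Functor.sheafPullbackConstruction.sheafPullbackIso
      (ι F i) (Type u) (J i) (FibSite.totalTopology F J)).symm (FibSite.restr F J (Type u) j)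
  exact preservesFiniteLimits_of_natIso e

include hF in
theorem exists_sigma (i j : 𝒮) [∀ S : 𝒮, (ι F S).IsContinuous (J S) (FibSite.totalTopology F J)]
    [∀ (R S : 𝒮) (f : R ⟶ S), (FibSite.invImage F f).IsContinuous (J S) (J R)]
    (a : Sheaf (J i) (Type u)) :
    ∃ c : Cofan fun f : j ⟶ i =>
        ((FibSite.invImage F f).sheafPullback (Type u) (J i) (J j)).obj a,
      Nonempty (IsColimit c) ∧
        Nonempty (c.pt ≅ (FibSite.restr F J (Type u) j).obj
          ((FibSite.extend F J (Type u) i).obj a)) := by
  have h := isColimitCofanMkObjOfIsColimit (presheafToSheaf (J j) (Type u)) _ _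
    (summandCofanIsColimit (F := F) (i := i) (j := j) a.obj)
  let es := Discrete.natIso
    (F := Discrete.functor fun f : j ⟶ i =>
      ((FibSite.invImage F f).sheafPullback (Type u) (J i) (J j)).obj a)
    (G := Discrete.functor fun f : j ⟶ i =>
      (presheafToSheaf (J j) (Type u)).obj ((FibSite.invImage F f).op.lan.obj a.obj))
    (fun f : Discrete (j ⟶ i) =>
    (Functor.sheafPullbackConstruction.sheafPullbackIso
      (FibSite.invImage F f.as) (Type u) (J i) (J j)).app a)
  refine ⟨(Cocone.precompose es.hom).obj _,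
    ⟨(IsColimit.precomposeHomEquiv es _).symm h⟩,
    ⟨(restrSheafify hF j).app ((ι F i).op.lan.obj a.obj) ≪≫
      (FibSite.restr F J (Type u) j).mapIso ((Functor.sheafPullbackConstruction.sheafPullbackIso
        (ι F i) (Type u) (J i) (FibSite.totalTopology F J)).app a).symm⟩⟩

theorem exists_pi (i j : 𝒮) [∀ S : 𝒮, (ι F S).IsContinuous (J S) (FibSite.totalTopology F J)]
    [(ι F i).IsCocontinuous (J i) (FibSite.totalTopology F J)]
    [∀ (P : (F.obj ⟨op i⟩)ᵒᵖ ⥤ Type u), (ι F i).op.HasPointwiseRightKanExtension P]
    [∀ (R S : 𝒮) (f : R ⟶ S), (FibSite.invImage F f).IsContinuous (J S) (J R)]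
    (a : Sheaf (J i) (Type u)) :
    ∃ c : Fan fun f : i ⟶ j =>
        ((FibSite.invImage F f).sheafPushforwardContinuous (Type u) (J j) (J i)).obj a,
      Nonempty (IsLimit c) ∧
        Nonempty (c.pt ≅ (FibSite.restr F J (Type u) j).obj
          ((FibSite.coextend F J (Type u) i).obj a)) := by
  let L := (ι F i).op.ran.obj a.obj
  let ε : (ι F i).op ⋙ L ⟶ a.obj := (ι F i).op.ranCounit.app a.obj
  let p : ∀ f : i ⟶ j, (ι F j).op ⋙ L ⟶ (FibSite.invImage F f).op ⋙ a.obj := fun f =>
    Functor.whiskerRight (NatTrans.op (cartNat f)) L ≫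
      Functor.whiskerLeft (FibSite.invImage F f).op ε
  have hb : ∀ (V : F.obj ⟨op j⟩), Function.Bijective
      (fun (w : L.obj (op ((ι F j).obj V))) (f : i ⟶ j) => (p f).app (op V) w) := by
    intro V
    have hl := (ι F i).op.isPointwiseRightKanExtensionRanCounit a.obj (op ((ι F j).obj V))
    constructor
    · intro w w' h
      refine Concrete.isLimit_ext _ hl w w' ?_
      rintro ⟨⟨⟨⟩⟩, ⟨U⟩, g⟩
      obtain ⟨g, rfl⟩ : ∃ g' : (ι F i).obj U ⟶ (ι F j).obj V, g'.op = g := ⟨g.unop, rfl⟩
      obtain ⟨f, φ⟩ := g
      have key : ∀ v : L.obj (op ((ι F j).obj V)),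
          ε.app (op U) (L.map (mkHom f φ).op v) = a.obj.map φ.op ((p f).app (op V) v) := by
        intro v
        rw [mkHom_eq_ι_map_cart, op_comp, Functor.map_comp_apply]
        exact NatTrans.naturality_apply ε φ.op _
      change ε.app (op U) (L.map (mkHom f φ).op w) = ε.app (op U) (L.map (mkHom f φ).op w')
      rw [key, key]
      exact congrArg _ (congrFun h f)
    · intro t
      let c : Cone (StructuredArrow.proj (op ((ι F j).obj V)) (ι F i).op ⋙ a.obj) :=
        { pt := PUnit
          π :=
            { app := fun X => ↾fun _ => a.obj.map X.hom.unop.fiber.op (t X.hom.unop.base)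
              naturality := fun X Y m => by
                ext
                have e : Y.hom.unop = (ι F i).map m.right.unop ≫ X.hom.unop :=
                  congrArg Quiver.Hom.unop (StructuredArrow.w m).symm
                have e' := e.trans (ι_map_comp m.right.unop X.hom.unop)
                change a.obj.map Y.hom.unop.fiber.op (t Y.hom.unop.base) =
                  a.obj.map m.right (a.obj.map X.hom.unop.fiber.op (t X.hom.unop.base))
                refine (congrArg (fun g : (ι F i).obj Y.right.unop ⟶ (ι F j).obj V =>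
                  a.obj.map g.fiber.op (t g.base)) e').trans ?_
                rw [op_comp, Functor.map_comp_apply]
                rfl } }
      refine ⟨hl.lift c PUnit.unit, funext fun f => ?_⟩
      have h := ConcreteCategory.congr_hom
        (hl.fac c (StructuredArrow.mk (Y := op ((FibSite.invImage F f).obj V)) (cart f V).op))
        PUnit.unit
      refine h.trans ?_
      exact (congrArg (fun g => ConcreteCategory.hom (a.obj.map g) (t f)) (op_id)).trans
        (Functor.map_id_apply a.obj _ _)
  let e := fun V : (F.obj ⟨op j⟩)ᵒᵖ => Equiv.ofBijective _ (hb V.unop)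
  let T := (FibSite.restr F J (Type u) j).obj ((FibSite.coextend F J (Type u) i).obj a)
  refine ⟨Fan.mk T (fun f => ⟨p f⟩),
    ⟨isLimitOfReflects (sheafToPresheaf (J j) (Type u))
      (evaluationJointlyReflectsLimits _ fun V => ?_)⟩, ⟨Iso.refl _⟩⟩
  exact
    { lift := fun s => ↾fun x => (e V).symm fun f => s.π.app ⟨f⟩ x
      fac := fun s f => by
        ext x
        exact congrFun ((e V).apply_symm_apply fun g => s.π.app ⟨g⟩ x) f.as
      uniq := fun s m hm => by
        ext x
        apply (e V).injective
        funext f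
        exact (ConcreteCategory.congr_hom (hm ⟨f⟩) x).trans
          (congrFun ((e V).apply_symm_apply fun g => s.π.app ⟨g⟩ x) f).symm }

include hF in
theorem W_iff_W_lan (i : 𝒮) {R : (F.obj ⟨op i⟩)ᵒᵖ ⥤ Type u} {U : F.obj ⟨op i⟩}
    (u : R ⟶ yoneda.obj U) :
    (J i).W u ↔ (FibSite.totalTopology F J).W (((ι F i).op.lan (H := Type u)).map u) := by
  haveI := isContinuous_ι hF i
  constructor
  · exact Functor.W_map_of_adjunction_of_isContinuous (J i) (FibSite.totalTopology F J) (ι F i) _
      ((ι F i).op.lanAdjunction (Type u)) u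
  · intro h
    rw [GrothendieckTopology.W_iff] at h ⊢
    haveI hQ : IsIso ((presheafToSheaf (J i) (Type u)).map ((resLan i).map u)) :=
      (NatIso.isIso_map_iff (restrSheafify hF i) ((ι F i).op.lan.map u)).2
        (inferInstanceAs (IsIso ((FibSite.restr F J (Type u) i).map
          ((presheafToSheaf (FibSite.totalTopology F J) (Type u)).map ((ι F i).op.lan.map u)))))
    have hcof := fun a => mapIsColimitOfPreservesOfIsColimit (presheafToSheaf (J i) (Type u)) _ _
      (selfCofanIsColimit (F := F) i a)
    have sq : IsPullback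
        ((presheafToSheaf (J i) (Type u)).map ((ι F i).op.lanUnit.app R))
        ((presheafToSheaf (J i) (Type u)).map u)
        ((presheafToSheaf (J i) (Type u)).map ((resLan i).map u))
        ((presheafToSheaf (J i) (Type u)).map ((ι F i).op.lanUnit.app (yoneda.obj U))) :=
      isPullback_inl (hcof (yoneda.obj U)) (hcof R) ((presheafToSheaf (J i) (Type u)).map u)
        ((presheafToSheaf (J i) (Type u)).map ((otherFunctor i).map u))
        ((presheafToSheaf (J i) (Type u)).map ((resLan i).map u))
        ((Functor.whiskerRight (ι F i).op.lanUnit (presheafToSheaf (J i) (Type u))).naturality u)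
        ((Functor.whiskerRight (otherIncl i) (presheafToSheaf (J i) (Type u))).naturality u)
    exact sq.isIso_snd_of_isIso hQ

end Groth.FibSiteL
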