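import Groth.Prelude.Def_FibSite
import Mathlib.CategoryTheory.Sites.InducedTopology
import Mathlib.CategoryTheory.Sites.Closed
import Mathlib.CategoryTheory.Sites.LeftExact

/-! Morphisms of the total category of a pseudofunctor and covering sieves of the total topology. -/

set_option backward.isDefEq.respectTransparency false
set_option backward.isDefEq.respectTransparency.types false

universe w v₃ u₃ v₂ u₂ v₁ u₁

open CategoryTheory CategoryTheory.Limits Opposite Pseudofunctor Pseudofunctor.CoGrothendieck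

namespace Groth.FibSiteL

variable {𝒮 : Type u₁} [Category.{v₁} 𝒮] {F : Pseudofunctor (LocallyDiscrete 𝒮ᵒᵖ) Cat.{v₂, u₂}}

/-- Morphism of the total category from its two components. -/
abbrev mkHom {R S : 𝒮} {V : F.obj ⟨op R⟩} {U : F.obj ⟨op S⟩} (f : R ⟶ S)
    (φ : V ⟶ (FibSite.invImage F f).obj U) : (ι F R).obj V ⟶ (ι F S).obj U :=
  ⟨f, φ⟩

lemma ι_map_comp {R : 𝒮} {V' : F.obj ⟨op R⟩} {Y : ∫ᶜ F} {V : F.obj ⟨op R⟩}
    (χ : V' ⟶ V) (g : (ι F R).obj V ⟶ Y) :
    (ι F R).map χ ≫ g = ⟨g.base, χ ≫ g.fiber⟩ := by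
  have h := CoGrothendieck.Hom.congr (Category.id_comp g)
  simp only [categoryStruct_comp_fiber, categoryStruct_id_fiber, categoryStruct_id_base] at h
  fapply CoGrothendieck.Hom.ext
  · exact Category.id_comp _
  · exact (Category.assoc _ _ _).trans ((congrArg (χ ≫ ·) h).trans (Category.assoc _ _ _).symm)

lemma mkHom_comp_ι_map {R S : 𝒮} {V : F.obj ⟨op R⟩} {U U' : F.obj ⟨op S⟩} (f : R ⟶ S)
    (φ : V ⟶ (FibSite.invImage F f).obj U) (ψ : U ⟶ U') :
    mkHom f φ ≫ (ι F S).map ψ = mkHom f (φ ≫ (FibSite.invImage F f).map ψ) := by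
  have h := CoGrothendieck.Hom.congr
    (Category.comp_id (mkHom f (𝟙 ((FibSite.invImage F f).obj U'))))
  simp only [categoryStruct_comp_fiber, categoryStruct_id_fiber, categoryStruct_id_base] at h
  fapply CoGrothendieck.Hom.ext
  · exact Category.comp_id _
  · change φ ≫ (FibSite.invImage F f).map (ψ ≫ _) ≫ _ = _
    rw [Functor.map_comp, Category.assoc]
    refine Eq.trans ?_ (Category.assoc _ _ _).symm
    congr 2
    exact (Category.id_comp _).symm.trans (h.trans (Category.id_comp _))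

lemma ι_map_comp_mkHom {R S : 𝒮} {V' V : F.obj ⟨op R⟩} {U : F.obj ⟨op S⟩} (f : R ⟶ S)
    (χ : V' ⟶ V) (φ : V ⟶ (FibSite.invImage F f).obj U) :
    (ι F R).map χ ≫ mkHom f φ = mkHom f (χ ≫ φ) :=
  ι_map_comp χ _

lemma mkHom_inj {R S : 𝒮} {V : F.obj ⟨op R⟩} {U : F.obj ⟨op S⟩} {f : R ⟶ S}
    {φ φ' : V ⟶ (FibSite.invImage F f).obj U} (h : mkHom f φ = mkHom f φ') : φ = φ' := by
  simpa [mkHom] using CoGrothendieck.Hom.congr h

lemma ι_map_inj {S : 𝒮} {V U : F.obj ⟨op S⟩} {φ φ' : V ⟶ U}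
    (h : (ι F S).map φ = (ι F S).map φ') : φ = φ' := by
  have h' := CoGrothendieck.Hom.congr h
  have e : φ ≫ (F.mapId ⟨op S⟩).inv.toNatTrans.app U = φ' ≫ (F.mapId ⟨op S⟩).inv.toNatTrans.app U := by
    simpa using h'
  simpa [← Cat.Hom₂.comp_app] using e =≫ (F.mapId ⟨op S⟩).hom.toNatTrans.app U

lemma exists_ι_map_eq {S : 𝒮} {V U : F.obj ⟨op S⟩} (g : (ι F S).obj V ⟶ (ι F S).obj U)
    (hg : g.base = 𝟙 S) : ∃ φ : V ⟶ U, (ι F S).map φ = g := by
  obtain ⟨b, f⟩ := g
  dsimp at b f hg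
  subst hg
  exact ⟨f ≫ (F.mapId ⟨op S⟩).hom.toNatTrans.app U,
    CoGrothendieck.Hom.ext _ _ rfl (by
      refine Eq.trans ?_ (Category.comp_id _).symm
      simp [← Cat.Hom₂.comp_app]
      exact Category.comp_id _)⟩

instance faithful_ι (S : 𝒮) : (ι F S).Faithful where
  map_injective h := ι_map_inj h

/-- If a composite with an arrow of a fibre lies in the fibre, so does the first factor. -/
lemma exists_ι_map_of_comp {S : 𝒮} {W V U : F.obj ⟨op S⟩}
    (h : (ι F S).obj W ⟶ (ι F S).obj V) (r : V ⟶ U) {g : W ⟶ U}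
    (e : h ≫ (ι F S).map r = (ι F S).map g) :
    ∃ k : W ⟶ V, h = (ι F S).map k ∧ k ≫ r = g := by
  have hb : h.base = 𝟙 S := by
    have := congrArg CoGrothendieck.Hom.base e
    exact (Category.comp_id _).symm.trans this
  obtain ⟨k, rfl⟩ := exists_ι_map_eq h hb
  exact ⟨k, rfl, ι_map_inj (by rw [Functor.map_comp]; exact e)⟩

/-- A continuous functor sends covering sieves to sieves generating covering sieves. -/
theorem functorPushforward_mem_of_isContinuous {C : Type u₂} [Category.{v₂} C] {D : Type u₃}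
    [Category.{v₃} D] (J : GrothendieckTopology C) (K : GrothendieckTopology D) (G : C ⥤ D)
    [G.IsContinuous J K] {U : C} {R : Sieve U} (hR : R ∈ J U) :
    R.functorPushforward G ∈ K (G.obj U) := by
  have hsh := G.op_comp_isSheaf_of_isSheaf_type J (classifier_isSheaf K)
  have hsep := (hsh R hR).isSeparatedFor
  rw [← K.close_eq_top_iff_mem]
  have := hsep.ext (t₁ := (⟨K.close (R.functorPushforward G), K.close_isClosed _⟩ :
      (Functor.closedSieves K).toFunctor.obj (op (G.obj U))))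
    (t₂ := ⟨(⊤ : Sieve (G.obj U)), fun _ _ _ => trivial⟩) fun Y g hg => Subtype.ext (by
      change Sieve.pullback (G.map g) (K.close _) = Sieve.pullback (G.map g) ⊤
      rw [← K.pullback_close, Sieve.pullback_top]
      apply K.close_eq_top_iff_mem _ |>.2
      rw [Sieve.pullback_eq_top_of_mem (R.functorPushforward G)
        (Sieve.image_mem_functorPushforward G R hg)]
      exact K.top_mem _)
  exact congrArg Subtype.val this

variable {J : FibSite.Topologies F}

/-- The covering condition. -/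
def CoversAt (J : FibSite.Topologies F) (X : ∫ᶜ F) (S : Sieve X) : Prop :=
  ∃ R ∈ J X.base X.fiber, Sieve.functorPushforward (ι F X.base) R ≤ S

/-- The covering sieves form a topology. -/
def covTopology (hF : FibSite.IsPreFibSite F J) : GrothendieckTopology (∫ᶜ F) where
  sieves X := {S | CoversAt J X S}
  top_mem' X := ⟨⊤, (J X.base).top_mem _, le_top⟩
  pullback_stable' := by
    rintro ⟨S₀, U⟩ ⟨T, V⟩ S g ⟨R, hR, hle⟩
    obtain ⟨f, ψ⟩ := g
    dsimp at f ψ hR hle
    haveI := hF f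
    refine ⟨(R.functorPushforward (FibSite.invImage F f)).pullback ψ,
      (J T).pullback_stable ψ (functorPushforward_mem_of_isContinuous (J S₀) (J T)
        (FibSite.invImage F f) hR), ?_⟩
    rintro Y h ⟨W, χ, k, ⟨Z, r, l, hr, hl⟩, rfl⟩
    change S ((k ≫ (ι F T).map χ) ≫ mkHom f ψ)
    rw [Category.assoc, ι_map_comp_mkHom, hl, ← mkHom_comp_ι_map f l r, ← Category.assoc]
    exact hle _ ⟨Z, r, _, hr, rfl⟩
  transitive' := by
    rintro ⟨S₀, U⟩ S ⟨R, hR, hle⟩ S' hS'
    have : ∀ ⦃V⦄ (r : V ⟶ U), R r → ∃ R' ∈ J S₀ V,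
        Sieve.functorPushforward (ι F S₀) R' ≤ S'.pullback ((ι F S₀).map r) := fun V r hr =>
      hS' (hle _ (Sieve.image_mem_functorPushforward (ι F S₀) R hr))
    choose R' hR' hle' using this
    refine ⟨Sieve.bind R (fun V r hr => R' r hr), (J S₀).bind_covering hR (fun V r hr => hR' r hr),
      ?_⟩
    rintro Y h ⟨W, _, k, ⟨V, a, r, hr, ha, rfl⟩, rfl⟩
    have := hle' r hr _ (Sieve.image_mem_functorPushforward (ι F S₀) _ ha)
    rw [Sieve.pullback_apply, ← Functor.map_comp] at this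
    exact S'.downward_closed this k

theorem mem_totalTopology_iff (hF : FibSite.IsPreFibSite F J) (X : ∫ᶜ F) (S : Sieve X) :
    S ∈ FibSite.totalTopology F J X ↔ CoversAt J X S := by
  refine ⟨fun h => FibSite.totalTopology_le (K := covTopology hF)
    (fun S₀ U R hR => ⟨R, hR, le_rfl⟩) X h, ?_⟩
  rintro ⟨R, hR, hle⟩
  obtain ⟨S₀, U⟩ := X
  exact (FibSite.totalTopology F J).superset_covering hle
    (FibSite.functorPushforward_mem_totalTopology hR)

theorem isCocontinuous_ι (hF : FibSite.IsPreFibSite F J) (S : 𝒮) :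
    (ι F S).IsCocontinuous (J S) (FibSite.totalTopology F J) where
  cover_lift {U T} hT := by
    obtain ⟨R, hR, hle⟩ := (mem_totalTopology_iff hF _ T).1 hT
    exact (J S).superset_covering
      (fun V r hr => hle _ (Sieve.image_mem_functorPushforward (ι F S) R hr)) hR

section Sheaf

variable (hF : FibSite.IsPreFibSite F J)
include hF

/-- A presheaf of types whose fibre restrictions are sheaves is a sheaf. -/
theorem isSheaf_of_fibre (P : (∫ᶜ F)ᵒᵖ ⥤ Type w)
    (hP : ∀ S : 𝒮, Presieve.IsSheaf (J S) ((ι F S).op ⋙ P)) :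
    Presieve.IsSheaf (FibSite.totalTopology F J) P := by
  have hsep : ∀ (X : ∫ᶜ F) (T : Sieve X), T ∈ FibSite.totalTopology F J X →
      Presieve.IsSeparatedFor P T.arrows := by
    intro X T hT x y₁ y₂ h₁ h₂
    obtain ⟨R, hR, hle⟩ := (mem_totalTopology_iff hF _ T).1 hT
    obtain ⟨S₀, U⟩ := X
    refine (hP S₀ R hR).isSeparatedFor.ext fun V r hr => ?_
    have hm := hle _ (Sieve.image_mem_functorPushforward (ι F S₀) R hr)
    exact (h₁ _ hm).trans (h₂ _ hm).symm
  intro X T hT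
  obtain ⟨R, hR, hle⟩ := (mem_totalTopology_iff hF _ T).1 hT
  obtain ⟨S₀, U⟩ := X
  rw [← Presieve.isSeparatedFor_and_exists_isAmalgamation_iff_isSheafFor]
  refine ⟨hsep _ T hT, fun x hx => ?_⟩
  have hm : ∀ ⦃V⦄ (r : V ⟶ U), R r → T ((ι F S₀).map r) := fun V r hr =>
    hle _ (Sieve.image_mem_functorPushforward (ι F S₀) R hr)
  let xR : Presieve.FamilyOfElements ((ι F S₀).op ⋙ P) R.arrows := fun V r hr => x _ (hm r hr)
  have hc : xR.Compatible := by
    intro Y₁ Y₂ Z g₁ g₂ f₁ f₂ h₁ h₂ e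
    exact hx ((ι F S₀).map g₁) ((ι F S₀).map g₂) (hm _ h₁) (hm _ h₂)
      (by simp only [← Functor.map_comp, e])
  refine ⟨(hP S₀ R hR).amalgamate _ hc, fun Y h hh => ?_⟩
  refine (hsep Y _ ((FibSite.totalTopology F J).pullback_stable h
    (FibSite.functorPushforward_mem_totalTopology hR))).ext fun Z g hg => ?_
  obtain ⟨V, r, k, hr, e⟩ := hg
  rw [← Functor.map_comp_apply, ← op_comp, e, op_comp, Functor.map_comp_apply]
  refine (congrArg (P.map k.op) ((hP S₀ R hR).valid_glue hc r hr)).trans ?_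
  exact hx k g (hm r hr) hh (e.symm)

/-- The fibre restriction of a sheaf of types is a sheaf. -/
theorem isSheaf_fibre_of_isSheaf (P : (∫ᶜ F)ᵒᵖ ⥤ Type w)
    (hP : Presieve.IsSheaf (FibSite.totalTopology F J) P) (S : 𝒮) :
    Presieve.IsSheaf (J S) ((ι F S).op ⋙ P) := by
  have hsep : ∀ T : 𝒮, Presieve.IsSeparated (J T) ((ι F T).op ⋙ P) := by
    intro T V R hR x y₁ y₂ h₁ h₂
    refine (hP _ (FibSite.functorPushforward_mem_totalTopology hR)).isSeparatedFor.ext ?_
    rintro Y _ ⟨W, r, k, hr, rfl⟩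
    rw [op_comp, Functor.map_comp_apply, Functor.map_comp_apply]
    exact congrArg (P.map k.op) ((h₁ r hr).trans (h₂ r hr).symm)
  intro U R hR
  rw [← Presieve.isSeparatedFor_and_exists_isAmalgamation_iff_isSheafFor]
  refine ⟨hsep S R hR, fun x hx => ?_⟩
  let T : Sieve ((ι F S).obj U) := R.functorPushforward (ι F S)
  have hT : T ∈ FibSite.totalTopology F J _ := FibSite.functorPushforward_mem_totalTopology hR
  -- independence of the chosen factorization
  have key : ∀ {Y : ∫ᶜ F} {V₁ V₂ : F.obj ⟨op S⟩} (r₁ : V₁ ⟶ U) (r₂ : V₂ ⟶ U) (hr₁ : R r₁)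
      (hr₂ : R r₂) (k₁ : Y ⟶ (ι F S).obj V₁) (k₂ : Y ⟶ (ι F S).obj V₂),
      k₁ ≫ (ι F S).map r₁ = k₂ ≫ (ι F S).map r₂ →
      P.map k₁.op (x r₁ hr₁) = P.map k₂.op (x r₂ hr₂) := by
    rintro ⟨T', W⟩ V₁ V₂ r₁ r₂ hr₁ hr₂ ⟨f, ψ₁⟩ ⟨f', ψ₂⟩ e
    obtain rfl : f = f' :=
      ((Category.comp_id f).symm.trans (congrArg CoGrothendieck.Hom.base e)).trans
        (Category.comp_id f')
    change mkHom f ψ₁ ≫ (ι F S).map r₁ = mkHom f ψ₂ ≫ (ι F S).map r₂ at e
    have hψ := mkHom_inj
      ((mkHom_comp_ι_map f ψ₁ r₁).symm.trans (e.trans (mkHom_comp_ι_map f ψ₂ r₂)))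
    haveI := hF f
    let G := FibSite.invImage F f
    haveI : G.IsContinuous (J S) (J T') := hF f
    let Q : (F.obj ⟨op T'⟩)ᵒᵖ ⥤ Type (max w u₂ v₂) :=
      ((ι F T').op ⋙ P) ⋙ uliftFunctor.{max u₂ v₂, w}
    have hQ : ∀ (Y' : F.obj ⟨op T'⟩) (C : (J T').Cover Y') (a b : Q.obj (op Y')),
        (∀ I : C.Arrow, Q.map I.f.op a = Q.map I.f.op b) → a = b := by
      intro Y' C a b hab
      refine ULift.ext a b ((hsep T' (C : Sieve Y') C.condition).ext fun Z g hg => ?_)
      exact congrArg ULift.down (hab ⟨Z, g, hg⟩)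
    let η := toSheafify (J T') Q
    have hη : ∀ Y', Function.Injective (η.app (op Y')) := by
      intro Y'
      have h1 := GrothendieckTopology.Plus.inj_of_sep (J := J T') Q hQ Y'
      have h2 := GrothendieckTopology.Plus.inj_of_sep (J := J T') ((J T').plusObj Q)
        (fun X C a b hab => GrothendieckTopology.Plus.sep Q C a b hab) Y'
      have e' : (J T').toSheafify Q ≫ (plusPlusIsoSheafify (J T') _ Q).hom = η :=
        toSheafify_plusPlusIsoSheafify_hom ..
      rw [← e']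
      intro a b hab
      apply h1
      apply h2
      have hinj : Function.Injective ((plusPlusIsoSheafify (J T') _ Q).hom.app (op Y')) :=
        ((plusPlusIsoSheafify (J T') _ Q).app (op Y')).toEquiv.injective
      have := hinj hab
      simp [GrothendieckTopology.toSheafify, GrothendieckTopology.plusMap_toPlus] at this
      exact this
    have hsh : Presieve.IsSheaf (J S) (G.op ⋙ sheafify (J T') Q) :=
      G.op_comp_isSheaf_of_isSheaf_type (J S)
        ((isSheaf_iff_isSheaf_of_type _ _).1 ((presheafToSheaf (J T') _).obj Q).property)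
    let z : Presieve.FamilyOfElements (G.op ⋙ sheafify (J T') Q) R.arrows := fun V r hr =>
      η.app (op (G.obj V)) (⟨P.map (mkHom f (𝟙 (G.obj V))).op (x r hr)⟩ : Q.obj (op (G.obj V)))
    have hnat : ∀ {A B : F.obj ⟨op T'⟩} (g : A ⟶ B) (a : P.obj (op ((ι F T').obj B))),
        (sheafify (J T') Q).map g.op (η.app (op B) (⟨a⟩ : Q.obj (op B))) =
          η.app (op A) (⟨P.map ((ι F T').map g).op a⟩ : Q.obj (op A)) := fun {A B} g a =>
      (NatTrans.naturality_apply η g.op (⟨a⟩ : Q.obj (op B))).symm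
    have hz : z.Compatible := by
      intro Y₁ Y₂ Z g₁ g₂ f₁ f₂ h₁ h₂ e'
      dsimp [z]
      rw [hnat, hnat]
      congr 2
      rw [← Functor.map_comp_apply, ← Functor.map_comp_apply, ← op_comp, ← op_comp,
        ι_map_comp_mkHom, ι_map_comp_mkHom, Category.comp_id, Category.comp_id]
      have := congrArg (P.map (mkHom f (𝟙 (G.obj Z))).op) (hx g₁ g₂ h₁ h₂ e')
      simp only [Functor.comp_map, Functor.op_map, Quiver.Hom.unop_op] at this
      erw [← Functor.map_comp_apply, ← Functor.map_comp_apply, ← op_comp, ← op_comp,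
        mkHom_comp_ι_map, mkHom_comp_ι_map, Category.id_comp, Category.id_comp] at this
      exact this
    have hy := fun (V : F.obj ⟨op S⟩) (r : V ⟶ U) (hr : R r) => (hsh R hR).valid_glue hz r hr
    have hh : ∀ (V : F.obj ⟨op S⟩) (r : V ⟶ U) (hr : R r) (ψ : W ⟶ G.obj V),
        η.app (op W) (⟨P.map (mkHom f ψ).op (x r hr)⟩ : Q.obj (op W)) =
          (sheafify (J T') Q).map (ψ ≫ G.map r).op ((hsh R hR).amalgamate z hz) := by
      intro V r hr ψ
      rw [op_comp, Functor.map_comp_apply]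
      refine Eq.trans ?_ (congrArg ((sheafify (J T') Q).map ψ.op) (hy V r hr)).symm
      dsimp [z]
      rw [hnat, ← Functor.map_comp_apply, ← op_comp, ι_map_comp_mkHom, Category.comp_id]
    apply ULift.up_injective
    apply hη
    exact (hh V₁ r₁ hr₁ ψ₁).trans (Eq.trans (by rw [hψ]) (hh V₂ r₂ hr₂ ψ₂).symm)
  have hex : ∀ ⦃Y : ∫ᶜ F⦄ (g : Y ⟶ (ι F S).obj U), T g → ∃ (V : F.obj ⟨op S⟩) (r : V ⟶ U)
      (_ : R r) (k : Y ⟶ (ι F S).obj V), k ≫ (ι F S).map r = g := by
    rintro Y g ⟨V, r, k, hr, rfl⟩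
    exact ⟨V, r, hr, k, rfl⟩
  choose V r hr k hk using hex
  let z : Presieve.FamilyOfElements P T.arrows := fun Y g hg =>
    P.map (k g hg).op (x (r g hg) (hr g hg))
  have hz : z.Compatible := by
    intro Y₁ Y₂ Z g₁ g₂ f₁ f₂ h₁ h₂ e
    dsimp only [z]
    rw [← Functor.map_comp_apply, ← Functor.map_comp_apply, ← op_comp, ← op_comp]
    apply key
    rw [Category.assoc, Category.assoc, hk, hk, e]
  refine ⟨(hP T hT).amalgamate z hz, fun W a ha => ?_⟩
  have hmem : T ((ι F S).map a) := Sieve.image_mem_functorPushforward (ι F S) R ha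
  refine ((hP T hT).valid_glue hz _ hmem).trans ?_
  dsimp only [z]
  refine (key (r _ hmem) a (hr _ hmem) ha (k _ hmem) (𝟙 _) ?_).trans ?_
  · rw [hk, Category.id_comp]
  · rw [op_id, Functor.map_id_apply]

theorem isSheaf_totalTopology_iff {A : Type u₃} [Category.{v₃} A] (P : (∫ᶜ F)ᵒᵖ ⥤ A) :
    Presheaf.IsSheaf (FibSite.totalTopology F J) P ↔
      ∀ S : 𝒮, Presheaf.IsSheaf (J S) ((ι F S).op ⋙ P) :=
  ⟨fun h S E => isSheaf_fibre_of_isSheaf hF _ (h E) S,
   fun h E => isSheaf_of_fibre hF _ (fun S => h S E)⟩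

theorem isContinuous_ι (S : 𝒮) :
    (ι F S).IsContinuous (J S) (FibSite.totalTopology F J) where
  op_comp_isSheaf_of_types G :=
    isSheaf_fibre_of_isSheaf hF _ ((isSheaf_iff_isSheaf_of_type _ _).1 G.property) S

theorem isContinuous_iff {D : Type u₃} [Category.{v₃} D] (K : GrothendieckTopology D)
    (m : ∫ᶜ F ⥤ D) :
    m.IsContinuous (FibSite.totalTopology F J) K ↔
      ∀ S : 𝒮, (ι F S ⋙ m).IsContinuous (J S) K := by
  constructor
  · intro h S
    haveI := isContinuous_ι hF S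
    exact Functor.isContinuous_comp (ι F S) m (J S) (FibSite.totalTopology F J) K
  · intro h
    refine ⟨fun G => isSheaf_of_fibre hF _ fun S => ?_⟩
    haveI := h S
    exact (ι F S ⋙ m).op_comp_isSheaf_of_types (J S) K G

theorem inducedTopology_ι_eq (S : 𝒮) :
    (ι F S).inducedTopology (FibSite.totalTopology F J) = J S := by
  refine le_antisymm ?_ (Functor.le_inducedTopology_iff.2 (isContinuous_ι hF S))
  intro U R hR
  obtain ⟨R', hR', hle⟩ := (mem_totalTopology_iff hF _ _).1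
    (functorPushforward_mem_of_isContinuous _ (FibSite.totalTopology F J) (ι F S) hR)
  refine (J S).superset_covering (fun V g hg => ?_) hR'
  obtain ⟨Z, r, h, hr, e⟩ := hle _ (Sieve.image_mem_functorPushforward (ι F S) R' hg)
  obtain ⟨k, -, hk⟩ := exists_ι_map_of_comp h r e.symm
  exact hk ▸ R.downward_closed hr k

end Sheaf

end Groth.FibSiteL
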