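import Mathlib.CategoryTheory.Extensive
import Mathlib.CategoryTheory.Limits.Constructions.LimitsOfProductsAndEqualizers
import Mathlib.CategoryTheory.Limits.Shapes.Pullback.IsPullback.Basic

/-! Left exactness detected through a complemented unit. -/

universe v₁ v₂ v₃ u₁ u₂ u₃

open CategoryTheory CategoryTheory.Limits

namespace Groth.FibSiteL

variable {A : Type u₁} [Category.{v₁} A] {B : Type u₂} [Category.{v₂} B] {C : Type u₃}
  [Category.{v₃} C]

/-- The naturality square of a map of binary coproduct diagrams is cartesian. -/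
lemma isPullback_inl [FinitaryExtensive A] {X Y X' Y' : A} {c : BinaryCofan X Y}
    (hc : IsColimit c) {c' : BinaryCofan X' Y'} (hc' : IsColimit c') (αX : X' ⟶ X) (αY : Y' ⟶ Y)
    (f : c'.pt ⟶ c.pt) (h₁ : αX ≫ c.inl = c'.inl ≫ f) (h₂ : αY ≫ c.inr = c'.inr ≫ f) :
    IsPullback c'.inl αX f c.inl :=
  (((BinaryCofan.isVanKampen_iff c).1 (FinitaryExtensive.vanKampen c hc) c' αX αY f h₁ h₂).1
    ⟨hc'⟩).1

/-- A functor preserving binary coproducts between extensive categories preserves pullbacks along
coproduct injections. -/
lemma map_isPullback_inl [FinitaryExtensive A] [HasPullbacks A] [FinitaryExtensive C]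
    (H : A ⥤ C) [PreservesColimitsOfShape (Discrete WalkingPair) H]
    {X Y P W : A} {c : BinaryCofan X Y} (hc : IsColimit c) {l : P ⟶ W} {p : P ⟶ X}
    {f : W ⟶ c.pt} (sq : IsPullback l p f c.inl) :
    IsPullback (H.map l) (H.map p) (H.map f) (H.map c.inl) := by
  obtain ⟨hc'⟩ := ((BinaryCofan.isVanKampen_iff c).1 (FinitaryExtensive.vanKampen c hc)
    (BinaryCofan.mk l (pullback.fst f c.inr)) p (pullback.snd f c.inr) f sq.w.symm
    pullback.condition.symm).2 ⟨sq, IsPullback.of_hasPullback f c.inr⟩
  let e : IsColimit (BinaryCofan.mk (H.map c.inl) (H.map c.inr)) :=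
    mapIsColimitOfPreservesOfIsColimit H c.inl c.inr (IsColimit.ofIsoColimit hc
      (Cocone.ext (Iso.refl _) (by rintro ⟨⟨⟩⟩ <;> exact Category.comp_id _)))
  let e' : IsColimit (BinaryCofan.mk (H.map l) (H.map (pullback.fst f c.inr))) :=
    mapIsColimitOfPreservesOfIsColimit H l (pullback.fst f c.inr) hc'
  exact isPullback_inl e e' (H.map p) (H.map (pullback.snd f c.inr)) (H.map f)
    ((H.map_comp _ _).symm.trans ((congrArg H.map sq.w.symm).trans (H.map_comp _ _)))
    ((H.map_comp _ _).symm.trans ((congrArg H.map pullback.condition.symm).trans (H.map_comp _ _)))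

/-- If `η : 𝟭 ⟶ L ⋙ R` is a complemented inclusion naturally, then `H` preserves finite limits as
soon as it preserves binary coproducts and `R` and `R ⋙ H` preserve finite limits. -/
lemma preservesFiniteLimits_of_complemented [FinitaryExtensive A] [HasFiniteLimits A]
    [FinitaryExtensive C] [HasFiniteLimits B] (R : B ⥤ A) (L : A ⥤ B) (Rest : A ⥤ A)
    (η : 𝟭 A ⟶ L ⋙ R) (k : Rest ⟶ L ⋙ R)
    (hη : ∀ a : A, Nonempty (IsColimit (BinaryCofan.mk (η.app a) (k.app a))))
    (H : A ⥤ C) [PreservesColimitsOfShape (Discrete WalkingPair) H]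
    [PreservesFiniteLimits R] [PreservesFiniteLimits (R ⋙ H)] :
    PreservesFiniteLimits H := by
  have hterm : PreservesLimitsOfShape (Discrete.{0} PEmpty) H := by
    have hT : IsTerminal (R.obj (⊤_ B)) := IsTerminal.isTerminalObj R _ terminalIsTerminal
    have hH : IsTerminal (H.obj (R.obj (⊤_ B))) :=
      IsTerminal.isTerminalObj (R ⋙ H) _ terminalIsTerminal
    have := preservesLimit_of_preserves_limit_cone (K := Functor.empty.{0} A) (F := H)
      hT ((isLimitMapConeEmptyConeEquiv H _).symm hH)
    exact preservesLimitsOfShape_pempty_of_preservesTerminal H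
  have hpb : PreservesLimitsOfShape WalkingCospan H := by
    constructor
    intro K
    suffices PreservesLimit (cospan (K.map WalkingCospan.Hom.inl)
        (K.map WalkingCospan.Hom.inr)) H from
      preservesLimit_of_iso_diagram H (diagramIsoCospan K).symm
    set a := K.obj WalkingCospan.left
    set b := K.obj WalkingCospan.right
    set c := K.obj WalkingCospan.one
    set f : a ⟶ c := K.map WalkingCospan.Hom.inl
    set g : b ⟶ c := K.map WalkingCospan.Hom.inr
    -- the cartesian squares of `η`
    have nat : ∀ {x y : A} (u : x ⟶ y),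
        IsPullback (η.app x) u (R.map (L.map u)) (η.app y) := fun {x y} u =>
      isPullback_inl (hη y).some (hη x).some u (Rest.map u) (R.map (L.map u))
        (η.naturality u) (k.naturality u)
    have natH : ∀ {x y : A} (u : x ⟶ y),
        IsPullback (H.map (η.app x)) (H.map u) (H.map (R.map (L.map u))) (H.map (η.app y)) :=
      fun {x y} u => map_isPullback_inl H (hη y).some (nat u)
    have hW : IsPullback (pullback.snd (L.map f) (L.map g)) (pullback.fst (L.map f) (L.map g))
        (L.map g) (L.map f) :=
      (IsPullback.of_hasPullback (L.map f) (L.map g)).flip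
    have sq : IsPullback (pullback.snd f g) (pullback.fst f g) g f :=
      (IsPullback.of_hasPullback f g).flip
    have hR := hW.map R
    let m : pullback f g ⟶ R.obj (pullback (L.map f) (L.map g)) :=
      hR.lift (pullback.snd f g ≫ η.app b) (pullback.fst f g ≫ η.app a) (by
        simp only [Category.assoc]
        erw [← η.naturality g, ← η.naturality f]
        simp only [Functor.id_map, ← Category.assoc, pullback.condition])
    have hm₁ : m ≫ R.map (pullback.snd (L.map f) (L.map g)) = pullback.snd f g ≫ η.app b :=
      hR.lift_fst _ _ _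
    have hm₂ : m ≫ R.map (pullback.fst (L.map f) (L.map g)) = pullback.fst f g ≫ η.app a :=
      hR.lift_snd _ _ _
    have big : IsPullback (pullback.snd f g ≫ η.app b) (pullback.fst f g) (R.map (L.map g))
        (f ≫ η.app c) := sq.paste_horiz (nat g)
    have A1 : IsPullback m (pullback.fst f g) (R.map (pullback.fst (L.map f) (L.map g)))
        (η.app a) := by
      refine IsPullback.of_right ?_ hm₂ hR
      have e : f ≫ η.app c = η.app a ≫ R.map (L.map f) := η.naturality f
      rw [hm₁, ← e]
      exact big
    have A12 : IsPullback m (pullback.fst f g ≫ f)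
        (R.map (pullback.fst (L.map f) (L.map g)) ≫ R.map (L.map f)) (η.app c) :=
      A1.paste_vert (nat f)
    have B12 : IsPullback (H.map m) (H.map (pullback.fst f g) ≫ H.map f)
        (H.map (R.map (pullback.fst (L.map f) (L.map g))) ≫ H.map (R.map (L.map f)))
        (H.map (η.app c)) := by
      have := map_isPullback_inl H (hη c).some A12
      erw [H.map_comp, H.map_comp] at this
      exact this
    have B1 : IsPullback (H.map m) (H.map (pullback.fst f g))
        (H.map (R.map (pullback.fst (L.map f) (L.map g)))) (H.map (η.app a)) :=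
      IsPullback.of_bot B12 (by rw [← H.map_comp, hm₂, H.map_comp]) (natH f)
    have Bbig := B1.paste_horiz (hW.map (R ⋙ H))
    have e₁ : H.map m ≫ (R ⋙ H).map (pullback.snd (L.map f) (L.map g)) =
        H.map (pullback.snd f g) ≫ H.map (η.app b) := by
      rw [Functor.comp_map, ← H.map_comp, hm₁, H.map_comp]
    have e₂ : H.map (η.app a) ≫ (R ⋙ H).map (L.map f) = H.map f ≫ H.map (η.app c) := by
      rw [Functor.comp_map, ← H.map_comp, ← H.map_comp]
      exact congrArg H.map (η.naturality f).symm
    rw [e₁, e₂] at Bbig
    have fin : IsPullback (H.map (pullback.snd f g)) (H.map (pullback.fst f g)) (H.map g)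
        (H.map f) :=
      IsPullback.of_right Bbig (by rw [← H.map_comp, ← H.map_comp, pullback.condition]) (natH g)
    exact preservesLimit_of_preserves_limit_cone (IsPullback.of_hasPullback f g).isLimit
      ((PullbackCone.isLimitMapConeEquiv _ _).symm fin.flip.isLimit)
  exact preservesFiniteLimits_of_preservesTerminal_and_pullbacks H

end Groth.FibSiteL
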