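import Groth.Agent.FibSiteLib.Basic

/-! Left Kan extensions of presheaves of sets along the fibre inclusions, elementwise. -/

set_option backward.isDefEq.respectTransparency false
set_option backward.isDefEq.respectTransparency.types false

universe u

open CategoryTheory CategoryTheory.Limits Opposite Pseudofunctor Pseudofunctor.CoGrothendieck
open scoped CategoryTheory.Pseudofunctor.StrongTrans

namespace Groth.FibSiteL

section General

variable {C D : Type u} [Category.{u} C] [Category.{u} D] (G : C ⥤ D) (a : Cᵒᵖ ⥤ Type u)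

/-- The generators of the left Kan extension. -/
noncomputable abbrev lanGen {V : D} {U : C} (g : V ⟶ G.obj U) (x : a.obj (op U)) :
    (G.op.lan.obj a).obj (op V) :=
  (G.op.lan.obj a).map g.op ((G.op.lanUnit.app a).app (op U) x)

/-- The pointwise colimit defining the left Kan extension. -/
noncomputable def lanColimit (V : D) :
    IsColimit ((Functor.LeftExtension.mk (G.op.lan.obj a) (G.op.lanUnit.app a)).coconeAt (op V)) :=
  Functor.isPointwiseLeftKanExtensionOfIsLeftKanExtension (F := a) _ (G.op.lanUnit.app a) (op V)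

lemma lanGen_surjective {V : D} (z : (G.op.lan.obj a).obj (op V)) :
    ∃ (U : C) (g : V ⟶ G.obj U) (x : a.obj (op U)), lanGen G a g x = z := by
  obtain ⟨j, x, hx⟩ := Types.jointly_surjective_of_isColimit (lanColimit G a V) z
  exact ⟨j.left.unop, j.hom.unop, x, hx⟩

lemma lanGen_comp {V : D} {U U' : C} (g' : V ⟶ G.obj U') (χ : U' ⟶ U) (x : a.obj (op U)) :
    lanGen G a g' (a.map χ.op x) = lanGen G a (g' ≫ G.map χ) x := by
  dsimp only [lanGen]
  rw [op_comp, Functor.map_comp_apply]
  exact congrArg _ (NatTrans.naturality_apply (G.op.lanUnit.app a) χ.op x)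

lemma lanGen_map {V V' : D} {U : C} (h : V' ⟶ V) (g : V ⟶ G.obj U) (x : a.obj (op U)) :
    (G.op.lan.obj a).map h.op (lanGen G a g x) = lanGen G a (h ≫ g) x := by
  dsimp only [lanGen]
  rw [op_comp, Functor.map_comp_apply]

lemma lanGen_homEquiv_symm {Q : Dᵒᵖ ⥤ Type u} (τ : a ⟶ G.op ⋙ Q) {V : D} {U : C}
    (g : V ⟶ G.obj U) (x : a.obj (op U)) :
    (((G.op.lanAdjunction (Type u)).homEquiv a Q).symm τ).app (op V) (lanGen G a g x) =
      Q.map g.op (τ.app (op U) x) := by
  dsimp only [lanGen]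
  refine (NatTrans.naturality_apply _ g.op _).trans (congrArg _ ?_)
  have h := congr_app (((G.op.lanAdjunction (Type u)).homEquiv a Q).apply_symm_apply τ) (op U)
  rw [Adjunction.homEquiv_unit, Functor.lanAdjunction_unit] at h
  exact ConcreteCategory.congr_hom h x

lemma lanGen_natural {b : Cᵒᵖ ⥤ Type u} (τ : a ⟶ b) {V : D} {U : C} (g : V ⟶ G.obj U)
    (x : a.obj (op U)) :
    (G.op.lan.map τ).app (op V) (lanGen G a g x) = lanGen G b g (τ.app (op U) x) := by
  dsimp only [lanGen]
  refine (NatTrans.naturality_apply (G.op.lan.map τ) g.op _).trans (congrArg _ ?_)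
  exact (ConcreteCategory.congr_hom
    (congr_app (G.op.lanUnit.naturality τ) (op U)) x).symm

/-- A function out of the value of the left Kan extension at an object. -/
lemma lan_exists_desc {V : D} {T : Type u}
    (s : ∀ (U : C), (V ⟶ G.obj U) → a.obj (op U) → T)
    (hs : ∀ {U U' : C} (g : V ⟶ G.obj U) (g' : V ⟶ G.obj U') (χ : U' ⟶ U),
      g' ≫ G.map χ = g → ∀ x, s U' g' (a.map χ.op x) = s U g x) :
    ∃ d : (G.op.lan.obj a).obj (op V) → T, ∀ U g x, d (lanGen G a g x) = s U g x := by
  let c : Cocone (CostructuredArrow.proj G.op (op V) ⋙ a) :=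
    { pt := T
      ι :=
        { app := fun j => ↾(s j.left.unop j.hom.unop)
          naturality := fun j j' f => by
            ext x
            have e : j'.hom.unop ≫ G.map f.left.unop = j.hom.unop :=
              congrArg Quiver.Hom.unop (CostructuredArrow.w f)
            exact hs j.hom.unop j'.hom.unop f.left.unop e x } }
  refine ⟨(lanColimit G a V).desc c, fun U g x => ?_⟩
  exact ConcreteCategory.congr_hom ((lanColimit G a V).fac c (CostructuredArrow.mk g.op)) x

end General

variable {𝒮 : Type u} [SmallCategory 𝒮]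
  {F G : Pseudofunctor (LocallyDiscrete 𝒮ᵒᵖ) Cat.{u, u}}

/-- Cartesian arrow. -/
abbrev cart {R S : 𝒮} (f : R ⟶ S) (U : F.obj ⟨op S⟩) :
    (ι F R).obj ((FibSite.invImage F f).obj U) ⟶ (ι F S).obj U :=
  mkHom f (𝟙 _)

lemma mkHom_eq_ι_map_cart {R S : 𝒮} {V : F.obj ⟨op R⟩} {U : F.obj ⟨op S⟩} (f : R ⟶ S)
    (φ : V ⟶ (FibSite.invImage F f).obj U) : mkHom f φ = (ι F R).map φ ≫ cart f U := by
  rw [ι_map_comp_mkHom, Category.comp_id]

/-- The cartesian arrows as a natural transformation. -/
def cartNat {R S : 𝒮} (f : R ⟶ S) : FibSite.invImage F f ⋙ ι F R ⟶ ι F S where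
  app U := cart f U
  naturality U U' ψ := by
    refine (ι_map_comp_mkHom f _ _).trans (Eq.trans ?_ (mkHom_comp_ι_map f _ ψ).symm)
    exact congrArg (mkHom f) ((Category.comp_id _).trans (Category.id_comp _).symm)

section Cofan

variable (i j : 𝒮)

/-- The summand indexed by `f : j ⟶ i` of the restriction to `j` of an extension from `i`. -/
noncomputable def summand (f : j ⟶ i) :
    (FibSite.invImage F f).op.lan (H := Type u) ⟶
      (ι F i).op.lan ⋙ (Functor.whiskeringLeft _ _ _).obj (ι F j).op where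
  app a := ((FibSite.invImage F f).op.lanAdjunction (Type u)).homEquiv _ _ |>.symm
    { app := fun U => ↾fun x => lanGen (ι F i) a (cart f U.unop) x
      naturality := fun U U' ψ => by
        ext x
        change lanGen (ι F i) a (cart f U'.unop) (a.map ψ x) =
          ((ι F i).op.lan.obj a).map ((ι F j).map ((FibSite.invImage F f).map ψ.unop)).op
            (lanGen (ι F i) a (cart f U.unop) x)
        rw [lanGen_map]
        exact (lanGen_comp (ι F i) a _ ψ.unop x).trans
          (congrArg (fun g => lanGen (ι F i) a g x) ((cartNat f).naturality ψ.unop).symm) }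
  naturality a b τ := by
    refine (Adjunction.homEquiv_naturality_left_symm _ _ _).symm.trans
      (Eq.trans (congrArg _ ?_) (Adjunction.homEquiv_naturality_right_symm _ _ _))
    ext U x
    exact (lanGen_natural (ι F i) a τ _ x).symm

variable {i j}

lemma summand_lanGen (f : j ⟶ i) (a : (F.obj ⟨op i⟩)ᵒᵖ ⥤ Type u) {V : F.obj ⟨op j⟩}
    {U : F.obj ⟨op i⟩} (φ : V ⟶ (FibSite.invImage F f).obj U) (x : a.obj (op U)) :
    ((summand i j f).app a).app (op V) (lanGen (FibSite.invImage F f) a φ x) =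
      lanGen (ι F i) a (mkHom f φ) x := by
  refine (lanGen_homEquiv_symm (FibSite.invImage F f) a _ φ x).trans ?_
  change ((ι F i).op.lan.obj a).map ((ι F j).map φ).op (lanGen (ι F i) a (cart f U) x) = _
  rw [lanGen_map, ← mkHom_eq_ι_map_cart]

lemma summand_bijective (a : (F.obj ⟨op i⟩)ᵒᵖ ⥤ Type u) (V : F.obj ⟨op j⟩) :
    Function.Bijective (fun z : Σ f : j ⟶ i,
        ((FibSite.invImage F f).op.lan.obj a).obj (op V) =>
      ((summand i j z.1).app a).app (op V) z.2) := by
  let sg : ∀ (U : F.obj ⟨op i⟩), ((ι F j).obj V ⟶ (ι F i).obj U) → a.obj (op U) →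
      Σ f : j ⟶ i, ((FibSite.invImage F f).op.lan.obj a).obj (op V) :=
    fun U g x => ⟨g.base, lanGen (FibSite.invImage F g.base) a g.fiber x⟩
  obtain ⟨d, hd⟩ := lan_exists_desc (ι F i) a (V := (ι F j).obj V) sg (by
    rintro U U' g ⟨f', φ'⟩ χ rfl x
    refine Eq.trans ?_ (congrArg (fun g => sg U g x) (mkHom_comp_ι_map f' φ' χ).symm)
    exact Sigma.ext rfl (heq_of_eq (lanGen_comp (FibSite.invImage F f') a φ' χ x)))
  refine ⟨fun z z' h => ?_, fun w => ?_⟩
  · have key : ∀ z : Σ f : j ⟶ i, ((FibSite.invImage F f).op.lan.obj a).obj (op V),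
        d (((summand i j z.1).app a).app (op V) z.2) = z := by
      rintro ⟨f, z⟩
      obtain ⟨U, φ, x, rfl⟩ := lanGen_surjective (FibSite.invImage F f) a z
      rw [summand_lanGen, hd]; rfl
    rw [← key z, ← key z']
    exact congrArg d h
  · obtain ⟨U, ⟨f, φ⟩, x, rfl⟩ := lanGen_surjective (ι F i) a w
    exact ⟨⟨f, lanGen (FibSite.invImage F f) a φ x⟩, summand_lanGen f a φ x⟩

/-- The summands form a coproduct. -/
noncomputable def summandCofanIsColimit (a : (F.obj ⟨op i⟩)ᵒᵖ ⥤ Type u) :
    IsColimit (Cofan.mk ((ι F j).op ⋙ (ι F i).op.lan.obj a)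
      (fun f : j ⟶ i => (summand i j f).app a)) := by
  let e := fun V : (F.obj ⟨op j⟩)ᵒᵖ => Equiv.ofBijective _ (summand_bijective a V.unop)
  let D : ∀ (s : Cofan fun f : j ⟶ i => (FibSite.invImage F f).op.lan.obj a)
      (V : (F.obj ⟨op j⟩)ᵒᵖ), ((ι F j).op ⋙ (ι F i).op.lan.obj a).obj V → s.pt.obj V :=
    fun s V w => (s.inj ((e V).symm w).1).app V ((e V).symm w).2
  have key : ∀ s f V z, D s V ((e V) ⟨f, z⟩) = (s.inj f).app V z := fun s f V z =>
    congrArg (fun p : Σ f : j ⟶ i, ((FibSite.invImage F f).op.lan.obj a).obj (op V.unop) =>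
      (s.inj p.1).app V p.2) ((e V).symm_apply_apply ⟨f, z⟩)
  refine Cofan.IsColimit.mk _
    (fun s => { app := fun V => ↾fun w => D s V w
                naturality := fun V V' h => ?_ })
    (fun s f => ?_) (fun s m hm => ?_)
  · ext w
    obtain ⟨⟨f, z⟩, rfl⟩ := (e V).surjective w
    have hn : ((ι F j).op ⋙ (ι F i).op.lan.obj a).map h ((e V) ⟨f, z⟩) =
        (e V') ⟨f, ((FibSite.invImage F f).op.lan.obj a).map h z⟩ :=
      (NatTrans.naturality_apply ((summand i j f).app a) h z).symm
    exact (congrArg (D s V') hn).trans ((key s f V' _).trans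
      ((NatTrans.naturality_apply (s.inj f) h z).trans
        (congrArg (s.pt.map h) (key s f V z)).symm))
  · ext V z
    exact key s f V z
  · ext V w
    obtain ⟨⟨f, z⟩, rfl⟩ := (e V).surjective w
    exact (ConcreteCategory.congr_hom (congr_app (hm f) V) z).trans (key s f V z).symm

end Cofan

section Self

variable (S : 𝒮)

/-- Restriction after extension from the same fibre, on presheaves. -/
noncomputable abbrev resLan : ((F.obj ⟨op S⟩)ᵒᵖ ⥤ Type u) ⥤ ((F.obj ⟨op S⟩)ᵒᵖ ⥤ Type u) :=
  (ι F S).op.lan ⋙ (Functor.whiskeringLeft _ _ _).obj (ι F S).op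

/-- Classes which do not come from a morphism of the fibre. -/
noncomputable def otherPart (a : (F.obj ⟨op S⟩)ᵒᵖ ⥤ Type u) :
    Subfunctor ((resLan S).obj a) where
  obj V := {w | ∃ (U : F.obj ⟨op S⟩) (g : (ι F S).obj V.unop ⟶ (ι F S).obj U) (x : a.obj (op U)),
    g.base ≠ 𝟙 S ∧ lanGen (ι F S) a g x = w}
  map {V V'} h := by
    rintro w ⟨U, g, x, hg, rfl⟩
    refine ⟨U, (ι F S).map h.unop ≫ g, x, ?_, (lanGen_map (ι F S) a _ g x).symm⟩
    intro e
    exact hg ((Category.id_comp g.base).symm.trans e)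

lemma resLan_cases (a : (F.obj ⟨op S⟩)ᵒᵖ ⥤ Type u) (V : (F.obj ⟨op S⟩)ᵒᵖ)
    (w : ((resLan S).obj a).obj V) :
    (∃! x, ((ι F S).op.lanUnit.app a).app V x = w) ∧ w ∉ (otherPart S a).obj V ∨
      (¬ ∃ x, ((ι F S).op.lanUnit.app a).app V x = w) ∧ w ∈ (otherPart S a).obj V := by
  classical
  let sg : ∀ (U : F.obj ⟨op S⟩), ((ι F S).obj V.unop ⟶ (ι F S).obj U) → a.obj (op U) →
      Option (a.obj V) := fun U g x =>
    if h : g.base = 𝟙 S then some (a.map (exists_ι_map_eq g h).choose.op x) else none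
  have sg_map : ∀ {U} (φ : V.unop ⟶ U) (x : a.obj (op U)),
      sg U ((ι F S).map φ) x = some (a.map φ.op x) := by
    intro U φ x
    have h : ((ι F S).map φ).base = 𝟙 S := rfl
    simp only [sg, dif_pos h]
    rw [ι_map_inj (exists_ι_map_eq ((ι F S).map φ) h).choose_spec]
  obtain ⟨d, hd⟩ := lan_exists_desc (ι F S) a (V := (ι F S).obj V.unop) sg (by
    intro U U' g g' χ e x
    by_cases h : g'.base = 𝟙 S
    · obtain ⟨φ, rfl⟩ := exists_ι_map_eq g' h
      subst e
      rw [← Functor.map_comp, sg_map, sg_map, op_comp, Functor.map_comp_apply]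
    · have h' : g.base ≠ 𝟙 S := fun h' => h (by
        rw [← e] at h'
        exact (Category.comp_id g'.base).symm.trans h')
      simp only [sg, dif_neg h, dif_neg h'])
  have hu : ∀ x, d (((ι F S).op.lanUnit.app a).app V x) = some x := by
    intro x
    have := hd V.unop ((ι F S).map (𝟙 _)) x
    rw [sg_map, op_id, Functor.map_id_apply] at this
    convert this using 2
    dsimp only [lanGen]
    rw [CategoryTheory.Functor.map_id, op_id, Functor.map_id_apply]
  obtain ⟨U, g, x, rfl⟩ := lanGen_surjective (ι F S) a (V := (ι F S).obj V.unop) w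
  have hnot : ∀ {U'} (g' : (ι F S).obj V.unop ⟶ (ι F S).obj U') (x' : a.obj (op U')),
      g'.base ≠ 𝟙 S → d (lanGen (ι F S) a g' x') = none := fun g' x' h => by
    rw [hd]; simp only [sg, dif_neg h]
  by_cases h : g.base = 𝟙 S
  · left
    obtain ⟨φ, rfl⟩ := exists_ι_map_eq g h
    have e : ((ι F S).op.lanUnit.app a).app V (a.map φ.op x) =
        lanGen (ι F S) a ((ι F S).map φ) x :=
      NatTrans.naturality_apply ((ι F S).op.lanUnit.app a) φ.op x
    refine ⟨⟨_, e, fun y hy => ?_⟩, ?_⟩
    · have := congrArg d (hy.trans e.symm)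
      rw [hu, hu] at this
      exact Option.some_injective _ this
    · rintro ⟨U', g', x', hg', e'⟩
      have := congrArg d (e'.trans e.symm)
      rw [hnot g' x' hg', hu] at this
      simp at this
  · right
    refine ⟨?_, U, g, x, h, rfl⟩
    rintro ⟨y, hy⟩
    have := congrArg d hy
    rw [hu, hnot g x h] at this
    simp at this

lemma otherPart_map {a b : (F.obj ⟨op S⟩)ᵒᵖ ⥤ Type u} (τ : a ⟶ b) (V : (F.obj ⟨op S⟩)ᵒᵖ)
    (w : ((resLan S).obj a).obj V) (hw : w ∈ (otherPart S a).obj V) :
    ((resLan S).map τ).app V w ∈ (otherPart S b).obj V := by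
  obtain ⟨U, g, x, hg, rfl⟩ := hw
  exact ⟨U, g, τ.app (op U) x, hg, (lanGen_natural (ι F S) a τ g x).symm⟩

/-- The complement of the unit, as a functor. -/
noncomputable def otherFunctor : ((F.obj ⟨op S⟩)ᵒᵖ ⥤ Type u) ⥤ ((F.obj ⟨op S⟩)ᵒᵖ ⥤ Type u) where
  obj a := (otherPart S a).toFunctor
  map {a b} τ :=
    { app := fun V => ↾fun w => ⟨((resLan S).map τ).app V w.1, otherPart_map S τ V w.1 w.2⟩
      naturality := fun V V' h => by
        ext w
        apply Subtype.ext
        exact NatTrans.naturality_apply ((resLan S).map τ) h _ }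
  map_id a := by
    ext V w
    exact Subtype.ext (ConcreteCategory.congr_hom (congr_app ((resLan S).map_id a) V) w.1)
  map_comp τ σ := by
    ext V w
    exact Subtype.ext (ConcreteCategory.congr_hom (congr_app ((resLan S).map_comp τ σ) V) w.1)

/-- Its inclusion. -/
noncomputable def otherIncl : otherFunctor (F := F) S ⟶ resLan S where
  app a := (otherPart S a).ι
  naturality a b τ := rfl

/-- The binary coproduct decomposition. -/
noncomputable def selfCofanIsColimit (a : (F.obj ⟨op S⟩)ᵒᵖ ⥤ Type u) :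
    IsColimit (BinaryCofan.mk (((ι F S).op.lanUnit).app a) ((otherIncl S).app a)) := by
  refine evaluationJointlyReflectsColimits _ fun V => ?_
  refine (isColimitMapCoconeBinaryCofanEquiv _ _ _).symm (Nonempty.some ?_)
  refine (Types.binaryCofan_isColimit_iff _).2 ⟨?_, ?_, ?_⟩
  · intro x y h
    rcases resLan_cases S a V (((ι F S).op.lanUnit.app a).app V x) with ⟨hx, -⟩ | ⟨hx, -⟩
    · exact hx.unique rfl h.symm
    · exact absurd ⟨x, rfl⟩ hx
  · intro x y h
    exact Subtype.ext h
  · constructor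
    · rw [Set.disjoint_left]
      rintro w ⟨x, rfl⟩ ⟨y, hy⟩
      rcases resLan_cases S a V (((ι F S).op.lanUnit.app a).app V x) with ⟨-, h⟩ | ⟨h, -⟩
      · exact h (hy ▸ y.2)
      · exact h ⟨x, rfl⟩
    · rw [codisjoint_iff]
      refine Set.eq_univ_iff_forall.2 fun w => ?_
      rcases resLan_cases S a V w with ⟨⟨x, hx, -⟩, -⟩ | ⟨-, h⟩
      · exact Or.inl ⟨x, hx⟩
      · exact Or.inr ⟨⟨w, h⟩, rfl⟩

end Self

section Square

lemma map_map_eq {C : Type u} [Category.{u} C] (P : Cᵒᵖ ⥤ Type u) {X Y Y' Z : C} {f : X ⟶ Y}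
    {g : Y ⟶ Z} {f' : X ⟶ Y'} {g' : Y' ⟶ Z} (e : f ≫ g = f' ≫ g') (x : P.obj (op Z)) :
    P.map f.op (P.map g.op x) = P.map f'.op (P.map g'.op x) := by
  rw [← Functor.map_comp_apply, ← Functor.map_comp_apply, ← op_comp, ← op_comp, e]


variable (α : G ⟶ F) (S : 𝒮)

/-- The fibre functor of a cartesian functor. -/
abbrev fib : G.obj ⟨op S⟩ ⥤ F.obj ⟨op S⟩ := (α.app ⟨op S⟩).toFunctor

lemma map_ι_map {U U' : G.obj ⟨op S⟩} (φ : U ⟶ U') :
    (CoGrothendieck.map α).map ((ι G S).map φ) = (ι F S).map ((fib α S).map φ) := by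
  have h := CoGrothendieck.Hom.congr ((CoGrothendieck.map α).map_id ((ι G S).obj U'))
  simp only [CoGrothendieck.map_map_fiber, categoryStruct_id_fiber, categoryStruct_id_base] at h
  fapply CoGrothendieck.Hom.ext
  · rfl
  · refine Eq.trans ?_ (Category.comp_id _).symm
    change (fib α S).map (φ ≫ _) ≫ _ = _
    rw [Functor.map_comp, Category.assoc]
    exact congrArg _ (h.trans (Category.comp_id _))

/-- The fibre inclusion commutes with the map of total categories. -/
def squareIso : ι G S ⋙ CoGrothendieck.map α ≅ fib α S ⋙ ι F S :=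
  NatIso.ofComponents (fun U => Iso.refl _) (fun φ =>
    (Category.comp_id _).trans ((map_ι_map α S φ).trans (Category.id_comp _).symm))

/-- Unique factorization through the image of a cartesian arrow. -/
lemma exists_unique_factor {T : 𝒮} {V : F.obj ⟨op S⟩} {U : G.obj ⟨op T⟩} (f : S ⟶ T)
    (φ : V ⟶ (FibSite.invImage F f).obj ((fib α T).obj U)) :
    ∃! k : V ⟶ (fib α S).obj ((FibSite.invImage G f).obj U),
      (ι F S).map k ≫ (CoGrothendieck.map α).map (cart f U) = mkHom f φ := by
  let n : (fib α S).obj ((FibSite.invImage G f).obj U) ⟶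
      (FibSite.invImage F f).obj ((fib α T).obj U) :=
    (α.naturality f.op.toLoc).hom.toNatTrans.app U
  have hc : (CoGrothendieck.map α).map (cart f U) = mkHom f n := by
    fapply CoGrothendieck.Hom.ext
    · rfl
    · refine Eq.trans ?_ (Category.comp_id _).symm
      change (fib α S).map (𝟙 _) ≫ n = n
      rw [CategoryTheory.Functor.map_id]
      exact Category.id_comp n
  have : IsIso n :=
    inferInstanceAs (IsIso ((Cat.Hom.toNatIso (α.naturality f.op.toLoc)).hom.app U))
  refine ⟨φ ≫ inv n, ?_, fun k hk => ?_⟩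
  · dsimp only
    rw [hc]
    exact (ι_map_comp_mkHom f _ _).trans (congrArg (mkHom f) (by simp))
  · rw [hc] at hk
    have := mkHom_inj ((ι_map_comp_mkHom f k n).symm.trans hk)
    rw [← this, Category.assoc, IsIso.hom_inv_id, Category.comp_id]

/-- The unit of the base change. -/
noncomputable def baseChangeUnit (P : (∫ᶜ G)ᵒᵖ ⥤ Type u) :
    (ι G S).op ⋙ P ⟶
      (fib α S).op ⋙ (ι F S).op ⋙ (CoGrothendieck.map α).op.lan.obj P where
  app U := ((CoGrothendieck.map α).op.lanUnit.app P).app ((ι G S).op.obj U)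
  naturality U U' ψ := by
    have h := ((CoGrothendieck.map α).op.lanUnit.app P).naturality ((ι G S).op.map ψ)
    have e : (CoGrothendieck.map α).op.map ((ι G S).op.map ψ) =
        (ι F S).op.map ((fib α S).op.map ψ) := congrArg Quiver.Hom.op (map_ι_map α S ψ.unop)
    exact h.trans (congrArg
      (fun g => ((CoGrothendieck.map α).op.lanUnit.app P).app ((ι G S).op.obj U) ≫
        ((CoGrothendieck.map α).op.lan.obj P).map g) e)

lemma baseChangeUnit_naturality {P P' : (∫ᶜ G)ᵒᵖ ⥤ Type u} (τ : P ⟶ P') :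
    Functor.whiskerLeft (ι G S).op τ ≫ baseChangeUnit α S P' =
      baseChangeUnit α S P ≫ Functor.whiskerLeft (fib α S).op
        (Functor.whiskerLeft (ι F S).op ((CoGrothendieck.map α).op.lan.map τ)) := by
  refine NatTrans.ext (funext fun U => ?_)
  exact congr_app ((CoGrothendieck.map α).op.lanUnit.naturality τ) ((ι G S).op.obj U)

/-- The base change map of left Kan extensions. -/
noncomputable def baseChangeLan :
    (Functor.whiskeringLeft _ _ _).obj (ι G S).op ⋙ (fib α S).op.lan (H := Type u) ⟶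
      (CoGrothendieck.map α).op.lan ⋙ (Functor.whiskeringLeft _ _ _).obj (ι F S).op where
  app P := (((fib α S).op.lanAdjunction (Type u)).homEquiv ((ι G S).op ⋙ P)
      ((ι F S).op ⋙ (CoGrothendieck.map α).op.lan.obj P)).symm (baseChangeUnit α S P)
  naturality P P' τ :=
    let adj := (fib α S).op.lanAdjunction (Type u)
    let Q := fun P : (∫ᶜ G)ᵒᵖ ⥤ Type u => (ι F S).op ⋙ (CoGrothendieck.map α).op.lan.obj P
    let q : Q P ⟶ Q P' := Functor.whiskerLeft (ι F S).op ((CoGrothendieck.map α).op.lan.map τ)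
    let l : (ι G S).op ⋙ P ⟶ (ι G S).op ⋙ P' := Functor.whiskerLeft (ι G S).op τ
    show (fib α S).op.lan.map l ≫ (adj.homEquiv ((ι G S).op ⋙ P') (Q P')).symm
          (baseChangeUnit α S P') =
        (adj.homEquiv ((ι G S).op ⋙ P) (Q P)).symm (baseChangeUnit α S P) ≫ q from
      ((adj.homEquiv_naturality_left_symm l (baseChangeUnit α S P')).symm.trans
        (congrArg (adj.homEquiv ((ι G S).op ⋙ P) (Q P')).symm
          (baseChangeUnit_naturality α S τ))).trans
        (adj.homEquiv_naturality_right_symm (baseChangeUnit α S P) q)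

lemma baseChangeLan_lanGen (P : (∫ᶜ G)ᵒᵖ ⥤ Type u) {V : F.obj ⟨op S⟩} {U : G.obj ⟨op S⟩}
    (k : V ⟶ (fib α S).obj U) (x : P.obj (op ((ι G S).obj U))) :
    ((baseChangeLan α S).app P).app (op V) (lanGen (fib α S) ((ι G S).op ⋙ P) k x) =
      lanGen (CoGrothendieck.map α) P ((ι F S).map k) x := by
  exact lanGen_homEquiv_symm (fib α S) ((ι G S).op ⋙ P) _ k x

lemma isIso_baseChangeLan : IsIso (baseChangeLan α S) := by
  suffices ∀ (P : (∫ᶜ G)ᵒᵖ ⥤ Type u) (V : (F.obj ⟨op S⟩)ᵒᵖ),
      Function.Bijective (((baseChangeLan α S).app P).app V) by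
    haveI : ∀ P, IsIso ((baseChangeLan α S).app P) := fun P => by
      haveI : ∀ V, IsIso (((baseChangeLan α S).app P).app V) := fun V =>
        (isIso_iff_bijective _).2 (this P V)
      exact NatIso.isIso_of_isIso_app _
    exact NatIso.isIso_of_isIso_app _
  intro P V
  obtain ⟨V⟩ := V
  let sg : ∀ (X : ∫ᶜ G), ((ι F S).obj V ⟶ (CoGrothendieck.map α).obj X) → P.obj (op X) →
      ((fib α S).op.lan.obj ((ι G S).op ⋙ P)).obj (op V) := fun X g x =>
    lanGen (fib α S) ((ι G S).op ⋙ P)
      (exists_unique_factor α S (U := X.fiber) g.base g.fiber).choose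
      (P.map (cart g.base X.fiber).op x)
  obtain ⟨d, hd⟩ := lan_exists_desc (CoGrothendieck.map α) P (V := (ι F S).obj V) sg (by
    rintro ⟨T, U⟩ ⟨T', U'⟩ g ⟨f', φ'⟩ ⟨b, ψ⟩ e x
    obtain ⟨f, φ⟩ := g
    dsimp at f φ f' φ' b ψ
    have hb : f' ≫ b = f := congrArg CoGrothendieck.Hom.base e
    subst hb
    -- the factorization of the composite in the total category of `G`
    let χ := (cart f' U' ≫ (mkHom b ψ : (ι G T').obj U' ⟶ (ι G T).obj U)).fiber
    have hc : cart f' U' ≫ (mkHom b ψ : (ι G T').obj U' ⟶ (ι G T).obj U) =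
        (ι G S).map χ ≫ cart (f' ≫ b) U :=
      mkHom_eq_ι_map_cart (f' ≫ b) χ
    obtain ⟨hk, -⟩ := (exists_unique_factor α S (U := U) (f' ≫ b) φ).choose_spec
    obtain ⟨hk', -⟩ := (exists_unique_factor α S (U := U') f' φ').choose_spec
    have huniq := (exists_unique_factor α S (U := U) (f' ≫ b) φ).unique
      (y₁ := (exists_unique_factor α S (U := U') f' φ').choose ≫ (fib α S).map χ)
      (y₂ := (exists_unique_factor α S (U := U) (f' ≫ b) φ).choose) (by
        rw [Functor.map_comp, ← map_ι_map, Category.assoc, ← Functor.map_comp, ← hc,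
          Functor.map_comp, ← Category.assoc, hk']
        exact e) hk
    change lanGen (fib α S) ((ι G S).op ⋙ P) (exists_unique_factor α S (U := U') f' φ').choose
        (P.map (cart f' U').op (P.map (mkHom b ψ : (ι G T').obj U' ⟶ (ι G T).obj U).op x)) =
      lanGen (fib α S) ((ι G S).op ⋙ P) (exists_unique_factor α S (U := U) (f' ≫ b) φ).choose
        (P.map (cart (f' ≫ b) U).op x)
    refine (congrArg (lanGen (fib α S) ((ι G S).op ⋙ P) _) (map_map_eq P hc x)).trans ?_
    rw [← huniq]
    exact lanGen_comp (fib α S) ((ι G S).op ⋙ P) _ χ _)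
  constructor
  · intro z z' h
    have key : ∀ z, d (((baseChangeLan α S).app P).app (op V) z) = z := by
      intro z
      obtain ⟨U, k, x, rfl⟩ := lanGen_surjective (fib α S) ((ι G S).op ⋙ P) z
      rw [baseChangeLan_lanGen, hd]
      let γ := (𝟙 ((ι G S).obj U) : _ ⟶ _).fiber
      have hγ : 𝟙 ((ι G S).obj U) = (ι G S).map γ ≫ cart (𝟙 S) U := mkHom_eq_ι_map_cart (𝟙 S) γ
      have hu := (exists_unique_factor α S (U := U) (𝟙 S) ((ι F S).map k).fiber).unique
        (y₁ := k ≫ (fib α S).map γ)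
        (y₂ := (exists_unique_factor α S (U := U) (𝟙 S) ((ι F S).map k).fiber).choose) (by
          rw [Functor.map_comp, ← map_ι_map, Category.assoc, ← Functor.map_comp, ← hγ,
            CategoryTheory.Functor.map_id]
          exact Category.comp_id _)
        (exists_unique_factor α S (U := U) (𝟙 S) ((ι F S).map k).fiber).choose_spec.1
      change lanGen (fib α S) ((ι G S).op ⋙ P)
          (exists_unique_factor α S (U := U) (𝟙 S) ((ι F S).map k).fiber).choose
          (P.map (cart (𝟙 S) U).op x) = _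
      rw [← hu]
      refine (lanGen_comp (fib α S) ((ι G S).op ⋙ P) k γ _).symm.trans (congrArg _ ?_)
      change P.map ((ι G S).map γ).op (P.map (cart (𝟙 S) U).op x) = x
      refine (map_map_eq P (f' := 𝟙 ((ι G S).obj U)) (g' := 𝟙 _) (hγ.symm.trans (Category.comp_id _).symm) x).trans ?_
      simp
    rw [← key z, ← key z']
    exact congrArg d h
  · intro w
    obtain ⟨⟨T, U⟩, ⟨f, φ⟩, x, rfl⟩ :=
      lanGen_surjective (CoGrothendieck.map α) P (V := (ι F S).obj V) w
    obtain ⟨k, hk, -⟩ := exists_unique_factor α S (U := U) f φ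
    refine ⟨lanGen (fib α S) ((ι G S).op ⋙ P) k (P.map (cart f U).op x), ?_⟩
    refine (baseChangeLan_lanGen α S P k _).trans ?_
    refine (lanGen_comp (CoGrothendieck.map α) P ((ι F S).map k) (cart f U) x).trans ?_
    exact congrArg (fun g => lanGen (CoGrothendieck.map α) P g x) hk

end Square

end Groth.FibSiteL
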