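import Groth.Agent.FibSiteLib.Basic
import Groth.Agent.FibSiteLib.Lan
import Groth.Agent.FibSiteLib.Extensive

/-! Morphisms of fibred sites and the left adjoint of restriction to a fibre. -/

set_option backward.isDefEq.respectTransparency false
set_option backward.isDefEq.respectTransparency.types false

universe u

open CategoryTheory CategoryTheory.Limits Opposite Pseudofunctor Pseudofunctor.CoGrothendieck
open scoped CategoryTheory.Pseudofunctor.StrongTrans

namespace Groth.FibSiteL

section General

variable {C D : Type u} [Category.{u} C] [Category.{u} D] (G : C ⥤ D)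
  (J : GrothendieckTopology C) (K : GrothendieckTopology D)

lemma preservesFiniteLimits_pushforward [G.IsContinuous J K] :
    PreservesFiniteLimits (G.sheafPushforwardContinuous (Type u) J K) := by
  constructor
  intro I _ _
  haveI : PreservesLimitsOfShape I
      (G.sheafPushforwardContinuous (Type u) J K ⋙ sheafToPresheaf J (Type u)) :=
    inferInstanceAs (PreservesLimitsOfShape I
      (sheafToPresheaf K (Type u) ⋙ (Functor.whiskeringLeft _ _ _).obj G.op))
  exact preservesLimitsOfShape_of_reflects_of_preserves _ (sheafToPresheaf J (Type u))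

/-- A fibre product of sheaves of sets is a sheaf. -/
lemma isSheaf_of_isPullback {A X Y Z : Cᵒᵖ ⥤ Type u} {p : A ⟶ X} {q : A ⟶ Y} {f : X ⟶ Z}
    {g : Y ⟶ Z} (h : IsPullback p q f g) (hX : Presheaf.IsSheaf J X) (hY : Presheaf.IsSheaf J Y)
    (hZ : Presheaf.IsSheaf J Z) : Presheaf.IsSheaf J A := by
  let f' : (⟨X, hX⟩ : Sheaf J (Type u)) ⟶ ⟨Z, hZ⟩ := ⟨f⟩
  let g' : (⟨Y, hY⟩ : Sheaf J (Type u)) ⟶ ⟨Z, hZ⟩ := ⟨g⟩
  have h' := (IsPullback.of_hasPullback f' g').map (sheafToPresheaf J (Type u))
  exact (Presheaf.isSheaf_of_iso_iff (IsPullback.isoIsPullback _ _ h h')).2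
    (pullback f' g').property

lemma isSheaf_of_isTerminal {A : Cᵒᵖ ⥤ Type u} (h : IsTerminal A) : Presheaf.IsSheaf J A :=
  (Presheaf.isSheaf_of_iso_iff (h.uniqueUpToIso
    (terminalIsTerminal.isTerminalObj (sheafToPresheaf J (Type u)) _))).2
    (⊤_ (Sheaf J (Type u))).property

end General

variable {𝒮 : Type u} [SmallCategory 𝒮]
  {F G : Pseudofunctor (LocallyDiscrete 𝒮ᵒᵖ) Cat.{u, u}}
  {J : FibSite.Topologies F} {K : FibSite.Topologies G}

/-- Sheafification commutes with restriction to a fibre. -/
noncomputable def restrSheafify (hF : FibSite.IsPreFibSite F J) (S : 𝒮)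
    [(ι F S).IsContinuous (J S) (FibSite.totalTopology F J)] :
    (Functor.whiskeringLeft _ _ (Type u)).obj (ι F S).op ⋙ presheafToSheaf (J S) (Type u) ≅
      presheafToSheaf (FibSite.totalTopology F J) (Type u) ⋙ FibSite.restr F J (Type u) S :=
  haveI := isCocontinuous_ι hF S
  (ι F S).pushforwardContinuousSheafificationCompatibility (Type u) (J S)
    (FibSite.totalTopology F J)

/-- A functor to the total topos preserves finite limits if it does so after restriction to every
fibre. -/
lemma preservesFiniteLimits_of_restr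
    [∀ S, (ι F S).IsContinuous (J S) (FibSite.totalTopology F J)]
    {E : Type*} [Category E] (Φ : E ⥤ FibSite.TotSh F J (Type u))
    (h : ∀ S, PreservesFiniteLimits (Φ ⋙ FibSite.restr F J (Type u) S)) :
    PreservesFiniteLimits Φ := by
  constructor
  intro I _ _
  constructor
  intro K₀
  constructor
  intro c hc
  refine ⟨isLimitOfReflects (sheafToPresheaf (FibSite.totalTopology F J) (Type u))
    (evaluationJointlyReflectsLimits _ fun X => ?_)⟩
  obtain ⟨⟨S, U⟩⟩ := X
  haveI := h S
  haveI : PreservesLimitsOfShape I ((Φ ⋙ FibSite.restr F J (Type u) S) ⋙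
      sheafToPresheaf (J S) (Type u) ⋙ (evaluation _ _).obj (op U)) := inferInstance
  exact isLimitOfPreserves ((Φ ⋙ FibSite.restr F J (Type u) S) ⋙
      sheafToPresheaf (J S) (Type u) ⋙ (evaluation _ _).obj (op U)) hc

/-- The constructed left adjoint of restriction to a fibre. -/
noncomputable abbrev extendC (J : FibSite.Topologies F) (S : 𝒮) :
    Sheaf (J S) (Type u) ⥤ FibSite.TotSh F J (Type u) :=
  sheafToPresheaf (J S) (Type u) ⋙ (ι F S).op.lan ⋙
    presheafToSheaf (FibSite.totalTopology F J) (Type u)

section Morph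

variable (α : G ⟶ F)

lemma isContinuous_total (hF : FibSite.IsPreFibSite F J) (hG : FibSite.IsPreFibSite G K)
    (hα : ∀ S : 𝒮, (fib α S).IsContinuous (K S) (J S)) :
    (CoGrothendieck.map α).IsContinuous (FibSite.totalTopology G K)
      (FibSite.totalTopology F J) := by
  rw [isContinuous_iff hG]
  intro S
  haveI := hα S
  haveI := isContinuous_ι hF S
  haveI := Functor.isContinuous_comp (fib α S) (ι F S) (K S) (J S) (FibSite.totalTopology F J)
  exact Functor.isContinuous_of_iso (squareIso α S).symm (K S) (FibSite.totalTopology F J)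

variable (S : 𝒮) [(CoGrothendieck.map α).IsContinuous (FibSite.totalTopology G K)
      (FibSite.totalTopology F J)]
  [(fib α S).IsContinuous (K S) (J S)]
  [(ι F S).IsContinuous (J S) (FibSite.totalTopology F J)]
  [(ι G S).IsContinuous (K S) (FibSite.totalTopology G K)]

/-- Inverse images commute with restriction to the fibres. -/
noncomputable def restrPullbackIso (hF : FibSite.IsPreFibSite F J) :
    (CoGrothendieck.map α).sheafPullback (Type u) (FibSite.totalTopology G K)
        (FibSite.totalTopology F J) ⋙ FibSite.restr F J (Type u) S ≅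
      FibSite.restr G K (Type u) S ⋙ (fib α S).sheafPullback (Type u) (K S) (J S) :=
  haveI := isIso_baseChangeLan α S
  Functor.isoWhiskerRight (Functor.sheafPullbackConstruction.sheafPullbackIso
      (CoGrothendieck.map α) (Type u) (FibSite.totalTopology G K) (FibSite.totalTopology F J)) _ ≪≫
    Functor.isoWhiskerLeft
      (sheafToPresheaf (FibSite.totalTopology G K) (Type u) ⋙ (CoGrothendieck.map α).op.lan)
      (restrSheafify hF S).symm ≪≫
    Functor.isoWhiskerLeft (sheafToPresheaf (FibSite.totalTopology G K) (Type u))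
      (Functor.isoWhiskerRight (asIso (baseChangeLan α S)).symm
        (presheafToSheaf (J S) (Type u))) ≪≫
    Functor.isoWhiskerLeft (FibSite.restr G K (Type u) S)
      (Functor.sheafPullbackConstruction.sheafPullbackIso
        (fib α S) (Type u) (K S) (J S)).symm

end Morph

theorem preservesFiniteLimits_total (α : G ⟶ F) (hF : FibSite.IsPreFibSite F J)
    (hG : FibSite.IsPreFibSite G K)
    [∀ S : 𝒮, (fib α S).IsContinuous (K S) (J S)]
    [(CoGrothendieck.map α).IsContinuous (FibSite.totalTopology G K)
      (FibSite.totalTopology F J)]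
    (h : ∀ S : 𝒮, PreservesFiniteLimits ((fib α S).sheafPullback (Type u) (K S) (J S))) :
    PreservesFiniteLimits ((CoGrothendieck.map α).sheafPullback (Type u)
      (FibSite.totalTopology G K) (FibSite.totalTopology F J)) := by
  haveI := fun S => isContinuous_ι hF S
  haveI := fun S => isContinuous_ι hG S
  refine preservesFiniteLimits_of_restr _ fun S => ?_
  haveI := h S
  haveI := preservesFiniteLimits_pushforward (ι G S) (K S) (FibSite.totalTopology G K)
  haveI : PreservesFiniteLimits (FibSite.restr G K (Type u) S ⋙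
      (fib α S).sheafPullback (Type u) (K S) (J S)) :=
    comp_preservesFiniteLimits _ _
  exact preservesFiniteLimits_of_natIso (restrPullbackIso α S hF).symm

section Self

variable (hF : FibSite.IsPreFibSite F J) (S : 𝒮)
  [(ι F S).IsContinuous (J S) (FibSite.totalTopology F J)]

/-- The unit, in sheaves. -/
noncomputable def selfUnit :
    𝟭 (Sheaf (J S) (Type u)) ⟶ extendC J S ⋙ FibSite.restr F J (Type u) S :=
  (sheafificationNatIso (J S) (Type u)).hom ≫
    Functor.whiskerRight
      (Functor.whiskerLeft (sheafToPresheaf (J S) (Type u)) (ι F S).op.lanUnit)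
      (presheafToSheaf (J S) (Type u)) ≫
    Functor.whiskerLeft (sheafToPresheaf (J S) (Type u) ⋙ (ι F S).op.lan)
      (restrSheafify hF S).hom

/-- Its complement, in sheaves. -/
noncomputable def selfOther :
    sheafToPresheaf (J S) (Type u) ⋙ otherFunctor S ⋙ presheafToSheaf (J S) (Type u) ⟶
      extendC J S ⋙ FibSite.restr F J (Type u) S :=
  Functor.whiskerRight (Functor.whiskerLeft (sheafToPresheaf (J S) (Type u)) (otherIncl S))
      (presheafToSheaf (J S) (Type u)) ≫
    Functor.whiskerLeft (sheafToPresheaf (J S) (Type u) ⋙ (ι F S).op.lan)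
      (restrSheafify hF S).hom

lemma self_isColimit (a : Sheaf (J S) (Type u)) :
    Nonempty (IsColimit (BinaryCofan.mk ((selfUnit hF S).app a) ((selfOther hF S).app a))) := by
  have h₀ := mapIsColimitOfPreservesOfIsColimit (presheafToSheaf (J S) (Type u)) _ _
    (selfCofanIsColimit (F := F) S a.obj)
  have h₁ := BinaryCofan.isColimitCompLeftIso _ ((sheafificationNatIso (J S) (Type u)).hom.app a) h₀
  refine ⟨IsColimit.ofIsoColimit h₁ (Cocone.ext ((restrSheafify hF S).app
    ((ι F S).op.lan.obj a.obj)) ?_)⟩
  rintro ⟨⟨⟩⟩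
  · simp [selfUnit]
  · simp [selfOther]

lemma selfUnit_isPullback {a b : Sheaf (J S) (Type u)} (τ : a ⟶ b) :
    IsPullback ((selfUnit hF S).app a) τ
      ((FibSite.restr F J (Type u) S).map ((extendC J S).map τ))
      ((selfUnit hF S).app b) :=
  isPullback_inl (self_isColimit hF S b).some (self_isColimit hF S a).some τ
    ((sheafToPresheaf (J S) (Type u) ⋙ otherFunctor S ⋙ presheafToSheaf (J S) (Type u)).map τ)
    ((FibSite.restr F J (Type u) S).map ((extendC J S).map τ))
    ((selfUnit hF S).naturality τ) ((selfOther hF S).naturality τ)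

end Self

section Converse

variable (α : G ⟶ F) (hF : FibSite.IsPreFibSite F J) (hG : FibSite.IsPreFibSite G K)
  [(CoGrothendieck.map α).IsContinuous (FibSite.totalTopology G K) (FibSite.totalTopology F J)]
include hF hG

theorem isContinuous_fib (S : 𝒮) : (fib α S).IsContinuous (K S) (J S) := by
  refine ⟨fun b => (isSheaf_iff_isSheaf_of_type _ _).1 ?_⟩
  haveI := isContinuous_ι hF S
  haveI := isContinuous_ι hG S
  let Φ : Sheaf (J S) (Type u) ⥤ ((G.obj ⟨op S⟩)ᵒᵖ ⥤ Type u) :=
    sheafToPresheaf (J S) (Type u) ⋙ (Functor.whiskeringLeft _ _ _).obj (fib α S).op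
  have hRL : ∀ a, Presheaf.IsSheaf (K S)
      (Φ.obj ((FibSite.restr F J (Type u) S).obj ((extendC J S).obj a))) := fun a => by
    refine (Presheaf.isSheaf_of_iso_iff ?_).1 ((FibSite.restr G K (Type u) S).obj
      (((CoGrothendieck.map α).sheafPushforwardContinuous (Type u) (FibSite.totalTopology G K)
        (FibSite.totalTopology F J)).obj ((extendC J S).obj a))).property
    exact Functor.isoWhiskerRight (NatIso.op (squareIso α S)).symm ((extendC J S).obj a).obj
  exact isSheaf_of_isPullback (K S) ((selfUnit_isPullback hF S (terminal.from b)).map Φ) (hRL _)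
    (isSheaf_of_isTerminal (K S) (terminalIsTerminal.isTerminalObj Φ _)) (hRL _)

theorem preservesFiniteLimits_fib (S : 𝒮) [(fib α S).IsContinuous (K S) (J S)]
    (h : PreservesFiniteLimits ((CoGrothendieck.map α).sheafPullback (Type u)
      (FibSite.totalTopology G K) (FibSite.totalTopology F J))) :
    PreservesFiniteLimits ((fib α S).sheafPullback (Type u) (K S) (J S)) := by
  haveI := isContinuous_ι hF S
  haveI := isContinuous_ι hG S
  haveI := preservesFiniteLimits_pushforward (ι G S) (K S) (FibSite.totalTopology G K)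
  haveI := preservesFiniteLimits_pushforward (ι F S) (J S) (FibSite.totalTopology F J)
  haveI : PreservesFiniteLimits ((CoGrothendieck.map α).sheafPullback (Type u)
      (FibSite.totalTopology G K) (FibSite.totalTopology F J) ⋙ FibSite.restr F J (Type u) S) :=
    comp_preservesFiniteLimits _ _
  haveI : PreservesFiniteLimits (FibSite.restr G K (Type u) S ⋙
      (fib α S).sheafPullback (Type u) (K S) (J S)) :=
    preservesFiniteLimits_of_natIso (restrPullbackIso α S hF)
  haveI : PreservesColimitsOfShape (Discrete WalkingPair)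
      ((fib α S).sheafPullback (Type u) (K S) (J S)) :=
    ((fib α S).sheafAdjunctionContinuous (Type u) (K S) (J S)).leftAdjoint_preservesColimits
      |>.preservesColimitsOfShape
  exact preservesFiniteLimits_of_complemented (FibSite.restr G K (Type u) S) (extendC K S)
    (sheafToPresheaf (K S) (Type u) ⋙ otherFunctor S ⋙ presheafToSheaf (K S) (Type u))
    (selfUnit hG S) (selfOther hG S) (self_isColimit hG S)
    ((fib α S).sheafPullback (Type u) (K S) (J S))

end Converse

end Groth.FibSiteL
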